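import Cfsg.Agent.H755.CommA
set_option linter.all false

/-!
# Theorem A: a normal subsystem centralizes commuting strongly closed subgroups (helper755)

`E` normal in `F` over `T`, `U` strongly closed in `F`, `[T, U] = 1` and `Aut_E(T)` trivial on `T ∩ U` (for example
`T ∩ U ≤ Z(E)`): every map of `E` extends to a map of `F` that is the identity on `U`.
-/

set_option autoImplicit false

namespace Cfsg.Agent.H755

open Cfsg Cfsg.FusionSystem
open Cfsg.Agent.H759 (StronglyClosed.apply_mem StronglyClosed.mem_of_apply_mem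
  StronglyClosed.exists_preimage)

variable {Ω : Type*} [Group Ω] {S T U : Subgroup Ω}

/-- The whole group is fully normalized. -/
theorem isFullyNormalized_self (E : FusionSystem T) [Finite T] : E.IsFullyNormalized T := by
  refine ⟨le_rfl, fun Q _ => ?_⟩
  have h1 : T ≤ normalizerIn T T := H802.le_normalizerIn le_rfl
  have : Finite (normalizerIn T T) := H802.finite_of_le inf_le_left
  exact Nat.card_mono (Set.toFinite _) (show normalizerIn T Q ≤ normalizerIn T T from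
    (inf_le_left : normalizerIn T Q ≤ T).trans h1)

/-- An automorphism of order prime to `n` is a power of its `n`-th power. -/
theorem exists_pow_eq_self' {G : Type*} [Monoid G] {x : G} {n : ℕ} (h : Nat.Coprime (orderOf x) n) :
    ∃ m : ℕ, (x ^ n) ^ m = x := exists_pow_eq_self_of_coprime h.symm

variable {E : FusionSystem T} {F : FusionSystem S}

/-- Base case: the automorphisms of `T`. -/
theorem good_top [Finite S] {p : ℕ} [Fact p.Prime] (hS : IsPGroup p S) (hE : E.IsNormalIn F p)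
    (hU : F.StronglyClosed U) (hTS : T ≤ S) (hUS : U ≤ S)
    (hc : ∀ t ∈ T, ∀ u ∈ U, t * u = u * t)
    (hZ : ∀ α ∈ E.autGroup T, ∀ (z : Ω) (hz : z ∈ T), z ∈ U → ((α ⟨z, hz⟩ : T) : Ω) = z) :
    E.autGroup T ≤ (goodSys E F U hTS hUS hc).autGroup T := by
  have hfinT : Finite T := H802.finite_of_le hTS
  have hTp : IsPGroup p T := hS.to_le hTS
  obtain ⟨⟨hEsat, hFsat, hEF, hTc, hinv, hfr⟩, hext⟩ := hE
  have hTa := H802.isFullyAutomized_of_isFullyNormalized hTp hEsat (isFullyNormalized_self E)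
  refine (autGroup_le_sup hTa).trans (sup_le ?_ (H802.autInducedBy_le_autGroup _ le_rfl))
  rw [Cfsg.Agent.Transfer.Residual.pResidual_def, MonoidHom.map_closure, Subgroup.closure_le]
  rintro _ ⟨⟨α, hα⟩, hαo, rfl⟩
  have hαo' : Nat.Coprime (orderOf α) p := by
    have := hαo
    rwa [Set.mem_ofPred_eq, Subgroup.orderOf_mk] at this
  show α ∈ (goodSys E F U hTS hUS hc).autGroup T
  obtain ⟨β, hβ, hβT, hβC⟩ := hext α hα
  have hUC : U ≤ centralizerIn S T := fun u hu => ⟨hUS hu, Subgroup.mem_centralizer_iff.2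
    (fun t ht => hc t ht u hu)⟩
  have hTC : T ⊔ centralizerIn S T ≤ S := sup_le hTS inf_le_left
  have hβm := (H802.mem_autGroup_iff F hTC β).1 hβ
  -- the action of the powers of `β` on `T` and on `U`
  have hpowT : ∀ (n : ℕ) (x : T), (((β ^ n) (Subgroup.inclusion le_sup_left x) :
      ↥(T ⊔ centralizerIn S T)) : Ω) = (((α ^ n) x : T) : Ω) := by
    intro n
    induction n with
    | zero => intro x; rfl
    | succ n ih =>
      intro x
      rw [pow_succ, pow_succ, MulAut.mul_apply, MulAut.mul_apply]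
      have h1 : β (Subgroup.inclusion le_sup_left x) = Subgroup.inclusion le_sup_left (α x) :=
        Subtype.ext (hβT x)
      rw [h1, ih]
  have hβZ : ∀ (z : Ω) (hzT : z ∈ T), z ∈ U →
      β ⟨z, Subgroup.mem_sup_left hzT⟩ = ⟨z, Subgroup.mem_sup_left hzT⟩ := by
    intro z hzT hzU
    apply Subtype.ext
    have h1 := hβT ⟨z, hzT⟩
    have h2 := hZ α hα z hzT hzU
    rw [h2] at h1
    exact h1
  have hzu : ∀ (u : Ω) (hu : u ∈ U), ∃ z : ↥(T ⊔ centralizerIn S T), (z : Ω) ∈ T ∧ (z : Ω) ∈ U ∧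
      β ⟨u, Subgroup.mem_sup_right (hUC hu)⟩ = ⟨u, Subgroup.mem_sup_right (hUC hu)⟩ * z := by
    intro u hu
    have h1 := hβC ⟨u, Subgroup.mem_sup_right (hUC hu)⟩ (hUC hu)
    have h2 : ((β ⟨u, Subgroup.mem_sup_right (hUC hu)⟩ : ↥(T ⊔ centralizerIn S T)) : Ω) ∈ U :=
      StronglyClosed.apply_mem hU hβm (x := ⟨u, Subgroup.mem_sup_right (hUC hu)⟩) hu
    refine ⟨⟨u, Subgroup.mem_sup_right (hUC hu)⟩⁻¹ * β ⟨u, Subgroup.mem_sup_right (hUC hu)⟩,
      h1.1, U.mul_mem (U.inv_mem hu) h2, ?_⟩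
    rw [mul_inv_cancel_left]
  have hpowU : ∀ (u : Ω) (hu : u ∈ U), ∃ z : ↥(T ⊔ centralizerIn S T), ∀ n : ℕ,
      (β ^ n) ⟨u, Subgroup.mem_sup_right (hUC hu)⟩ =
        ⟨u, Subgroup.mem_sup_right (hUC hu)⟩ * z ^ n := by
    intro u hu
    obtain ⟨z, hzT, hzU, hz⟩ := hzu u hu
    refine ⟨z, fun n => ?_⟩
    have hzf : β z = z := hβZ z hzT hzU
    have hzn : ∀ k : ℕ, (β ^ k) z = z := by
      intro k
      induction k with
      | zero => rfl
      | succ k ih => rw [pow_succ, MulAut.mul_apply, hzf, ih]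
    induction n with
    | zero => simp
    | succ n ih =>
      rw [pow_succ, MulAut.mul_apply, hz, map_mul, ih, hzn, pow_succ, mul_assoc]
  -- the order of `S` is a power of `p`
  obtain ⟨e, he⟩ := IsPGroup.iff_card.1 hS
  have hN : ∀ z : ↥(T ⊔ centralizerIn S T), z ^ (Nat.card S) = 1 := by
    intro z
    apply Subtype.ext
    have h1 : (⟨(z : Ω), hTC z.2⟩ : S) ^ Nat.card S = 1 := pow_card_eq_one'
    have h2 : (z : Ω) ^ Nat.card S = 1 := congrArg (fun s : S => (s : Ω)) h1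
    rw [SubmonoidClass.coe_pow, h2]; rfl
  have hcop : Nat.Coprime (orderOf α) (Nat.card S) := by
    rw [he]; exact hαo'.pow_right e
  obtain ⟨m, hm⟩ := exists_pow_eq_self' hcop
  have hβ' : β ^ (Nat.card S * m) ∈ F.autGroup (T ⊔ centralizerIn S T) := Subgroup.pow_mem _ hβ _
  have hβ'm := (H802.mem_autGroup_iff F hTC _).1 hβ'
  have hle : T ⊔ U ≤ T ⊔ centralizerIn S T := sup_le_sup_left hUC T
  rw [H802.mem_autGroup_iff _ le_rfl]
  refine ⟨(H802.mem_autGroup_iff E le_rfl α).1 hα, _, H802.restrict_mem hβ'm hle,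
    fun x => ?_, fun u hu => ?_⟩
  · show (((β ^ (Nat.card S * m)) (Subgroup.inclusion le_sup_left x) :
      ↥(T ⊔ centralizerIn S T)) : Ω) = ((α x : T) : Ω)
    rw [hpowT, pow_mul, hm]
  · show (((β ^ (Nat.card S * m)) ⟨u, Subgroup.mem_sup_right (hUC hu)⟩ :
      ↥(T ⊔ centralizerIn S T)) : Ω) = u
    obtain ⟨z, hz⟩ := hpowU u hu
    rw [hz, pow_mul, hN, one_pow, mul_one]

/-- An isomorphism of `F` onto a receptive subgroup of `T` extends to `Q U`. -/
theorem exists_extension_sup (hUS : U ≤ S) (hc : ∀ t ∈ T, ∀ u ∈ U, t * u = u * t)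
    {Q Q' : Subgroup Ω} (hQT : Q ≤ T) (hQ' : F.IsReceptive Q') {σ : Q →* Ω} (hσ : σ ∈ F.Hom Q)
    (hr : σ.range = Q') : ∃ σ' ∈ F.Hom (Q ⊔ U), ∀ x : Q,
      σ' ⟨x, Subgroup.mem_sup_left x.2⟩ = σ x := by
  obtain ⟨ψ, hψ, hψe⟩ := hQ'.2 Q σ hσ hr
  have hUC : U ≤ centralizerIn S Q := fun u hu => ⟨hUS hu, Subgroup.mem_centralizer_iff.2
    (fun t ht => hc t (hQT ht) u hu)⟩
  have hle : Q ⊔ U ≤ extender S Q σ :=
    sup_le (H802.le_extender (H802.hom_le hσ) (H802.hom_apply_mem hσ))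
      (hUC.trans (H802.centralizerIn_le_extender S Q σ))
  exact ⟨_, H802.restrict_mem hψ hle, fun x => hψe x x.2 _⟩

/-- Step case, for a subgroup fully normalized in `F`. -/
theorem good_step [Finite S] {p : ℕ} [Fact p.Prime] (hS : IsPGroup p S) (hE : E.IsNormalIn F p)
    (hU : F.StronglyClosed U) (hTS : T ≤ S) (hUS : U ≤ S)
    (hc : ∀ t ∈ T, ∀ u ∈ U, t * u = u * t) {Q : Subgroup Ω} (hQT : Q ≤ T) (hne : Q ≠ T)
    (hQ : F.IsFullyNormalized Q)
    (IH : ∀ R : Subgroup Ω, Nat.card Q < Nat.card R → E.Hom R ⊆ (goodSys E F U hTS hUS hc).Hom R) :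
    E.autGroup Q ≤ (goodSys E F U hTS hUS hc).autGroup Q := by
  have hfinT : Finite T := H802.finite_of_le hTS
  have hfinQ : Finite Q := H802.finite_of_le (hQT.trans hTS)
  have hTp : IsPGroup p T := hS.to_le hTS
  obtain ⟨⟨hEsat, hFsat, hEinv⟩, hext⟩ := hE
  have hEF := hEinv.1
  have hTc := hEinv.2.1
  have hQE : E.IsFullyNormalized Q := isFullyNormalized_sub hS hFsat hEF hTc hQT hQ
  have hQa := H802.isFullyAutomized_of_isFullyNormalized hTp hEsat hQE
  have hQr := H802.isReceptive_of_isFullyNormalized hTp hEsat hQE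
  have hQrF := H802.isReceptive_of_isFullyNormalized hS hFsat hQ
  intro γ hγ
  -- `Aut_{E*}(Q)` is normalized by `γ`
  have hnorm : ∀ ν ∈ (goodSys E F U hTS hUS hc).autGroup Q,
      γ * ν * γ⁻¹ ∈ (goodSys E F U hTS hUS hc).autGroup Q := by
    intro ν hν
    have hγm := hEF Q ((H802.mem_autGroup_iff E hQT γ).1 hγ)
    have hr : (Q.subtype.comp γ.toMonoidHom).range = Q :=
      H802.range_eq_of_mapsTo hγm (fun x => (γ x).2)
    obtain ⟨σ, hσ, hσe⟩ := exists_extension_sup (U := U) hUS hc hQT hQrF hγm hr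
    refine good_transport hEinv hU hQT hQT hσ hν (fun y => ⟨γ⁻¹ y, ?_, ?_⟩)
    · rw [hσe]
      show ((γ (γ⁻¹ y) : Q) : Ω) = y
      rw [MulAut.apply_inv_self]
    · have := hσe (ν (γ⁻¹ y))
      rw [this]
      rfl
  obtain ⟨β, hβ, hβγ⟩ := H802.exists_frattini hTp (goodSys_le (E := E) (F := F)) hQa hnorm
  have hβE : β ∈ E.autGroup Q := H802.autGroup_mono goodSys_le Q hβ
  obtain ⟨ψ, hψ, hψe⟩ := H802.exists_extension_of_normalizes hQr (mul_mem hβE hγ) hβγ
  have hlt : Nat.card Q < Nat.card (normalizerIn T Q) := H802.card_lt_card_normalizerIn hTp hQT hne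
  have hψg := IH _ hlt hψ
  have h1 : β * γ ∈ (goodSys E F U hTS hUS hc).autGroup Q := by
    rw [H802.mem_autGroup_iff _ hQT]
    exact H802.mem_of_agree hψg (H802.le_normalizerIn hQT) (fun x hx => (hψe x hx _).symm)
  have h2 := mul_mem (inv_mem hβ) h1
  rwa [inv_mul_cancel_left] at h2

/-- **Theorem A.** Let `E` be normal in `F` over `T`, `U` strongly closed in `F` with `[T, U] = 1`, and let
`Aut_E(T)` act trivially on `T ∩ U`. Then every map of `E` extends to a map of `F` that is the identity on `U`. -/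
theorem hom_subset_goodSys [Finite S] {p : ℕ} [Fact p.Prime] (hS : IsPGroup p S)
    (hE : E.IsNormalIn F p) (hU : F.StronglyClosed U) (hTS : T ≤ S) (hUS : U ≤ S)
    (hc : ∀ t ∈ T, ∀ u ∈ U, t * u = u * t)
    (hZ : ∀ α ∈ E.autGroup T, ∀ (z : Ω) (hz : z ∈ T), z ∈ U → ((α ⟨z, hz⟩ : T) : Ω) = z)
    (P : Subgroup Ω) : E.Hom P ⊆ (goodSys E F U hTS hUS hc).Hom P := by
  have hfinT : Finite T := H802.finite_of_le hTS
  have hTp : IsPGroup p T := hS.to_le hTS
  have hEsat := hE.1.1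
  have hFsat := hE.1.2.1
  have hEinv := hE.1.2.2
  have hEF := hEinv.1
  have hTc := hEinv.2.1
  refine H802.le_of_autGroup_le hTp hEsat _ (fun Q hQ IH => ?_) P
  have hQT : Q ≤ T := hQ.1
  have hfinQ : Finite Q := H802.finite_of_le (hQT.trans hTS)
  by_cases hne : Q = T
  · subst hne
    exact good_top hS hE hU hTS hUS hc hZ
  · -- a fully `F`-normalized conjugate
    obtain ⟨Q', ⟨σ, hσ, hσr⟩, hQ'⟩ := H802.exists_isFullyNormalized hS hFsat (hQT.trans hTS)
    have hQ'T : Q' ≤ T := by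
      rw [← hσr]
      rintro _ ⟨x, rfl⟩
      exact StronglyClosed.apply_mem hTc hσ (hQT x.2)
    have hcard : Nat.card Q = Nat.card Q' := H802.isConj_card_eq ⟨σ, hσ, hσr⟩
    have hne' : Q' ≠ T := by
      intro h
      apply hne
      refine Subgroup.eq_of_le_of_card_ge hQT ?_
      rw [hcard, h]
    have hstep : E.autGroup Q' ≤ (goodSys E F U hTS hUS hc).autGroup Q' :=
      good_step hS hE hU hTS hUS hc hQ'T hne' hQ' (fun R hR => IH R (hcard ▸ hR))
    obtain ⟨σ', hσ', hσ'e⟩ := exists_extension_sup (U := U) hUS hc hQT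
      (H802.isReceptive_of_isFullyNormalized hS hFsat hQ') hσ hσr
    -- the inverse of `σ'`
    have hle : Q' ⊔ U ≤ σ'.range := by
      refine sup_le ?_ ?_
      · intro y hy
        rw [← hσr] at hy
        obtain ⟨x, rfl⟩ := hy
        exact ⟨_, hσ'e x⟩
      · intro u hu
        obtain ⟨x, hx, he⟩ := StronglyClosed.exists_preimage hU hσ' le_sup_right hu
        exact ⟨_, he⟩
    obtain ⟨τ, hτ, hτe⟩ := H759.exists_inv F hσ' hle
    intro γ hγ
    set e := H802.isoOf σ (F.injective_of_mem hσ) hσr with hed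
    have hγ' : MulAut.congr e γ ∈ E.autGroup Q' := by
      refine strong_inv_aut hEinv hQT hQ'T hγ hσ (fun y => ⟨e.symm y, ?_, rfl⟩)
      exact H802.isoOf_symm_apply _ _ _ _
    refine good_transport hEinv hU hQ'T hQT hτ (hstep hγ') (fun x => ⟨e x, ?_, ?_⟩)
    · have h1 : σ' ⟨x, Subgroup.mem_sup_left x.2⟩ ∈ Q' ⊔ U := by
        rw [hσ'e x]; exact Subgroup.mem_sup_left (e x).2
      have h2 := hτe ⟨x, Subgroup.mem_sup_left x.2⟩ h1
      refine Eq.trans ?_ h2
      congr 1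
      exact Subtype.ext (hσ'e x).symm
    · have h1 : σ' ⟨(γ x : Q), Subgroup.mem_sup_left (γ x).2⟩ ∈ Q' ⊔ U := by
        have := hσ'e (γ x)
        rw [this]; exact Subgroup.mem_sup_left (e (γ x)).2
      have h2 := hτe ⟨(γ x : Q), Subgroup.mem_sup_left (γ x).2⟩ h1
      refine h2.symm.trans ?_
      congr 1
      apply Subtype.ext
      show σ' ⟨(γ x : Q), Subgroup.mem_sup_left (γ x).2⟩ = ((MulAut.congr e γ (e x) : Q') : Ω)
      rw [MulAut.congr_apply]
      show _ = ((e (γ (e.symm (e x))) : Q') : Ω)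
      rw [MulEquiv.symm_apply_apply]
      exact hσ'e (γ x)

end Cfsg.Agent.H755
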