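import Cfsg.Agent.H802.FusAlp
import Cfsg.Agent.H802.FusGroup
import Cfsg.Agent.Transfer.Residual
set_option linter.all false

/-!
# Uniqueness of saturated subsystems of p-power index (helper755)

If `E` is a saturated subsystem of `F` over `T` and `E'` is any system over `T` whose automorphism groups contain
the groups `O^p(Aut_F(P))`, `P ≤ T`, then `E ≤ E'`. Hence there is at most one saturated subsystem of `F` over `T`
of `p`-power index.
-/

set_option autoImplicit false

namespace Cfsg.Agent.H755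

open Cfsg Cfsg.FusionSystem

section grp

variable {G : Type*} [Group G]

/-- `O^p(A)` inside an ambient group is monotone in `A`. -/
theorem pResidual_map_mono (p : ℕ) {A B : Subgroup G} (h : A ≤ B) :
    (pResidual p A).map A.subtype ≤ (pResidual p B).map B.subtype := by
  have h1 := Cfsg.Agent.Transfer.Residual.map_pResidual_le p (Subgroup.inclusion h)
  rintro _ ⟨x, hx, rfl⟩
  exact ⟨Subgroup.inclusion h x, h1 ⟨x, hx, rfl⟩, rfl⟩

/-- An element of order prime to `p` of `A` lies in `O^p(A)`. -/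
theorem mem_pResidual_map (p : ℕ) {A : Subgroup G} {x : G} (hx : x ∈ A)
    (ho : Nat.Coprime (orderOf x) p) : x ∈ (pResidual p A).map A.subtype := by
  refine ⟨⟨x, hx⟩, Cfsg.Agent.Transfer.Residual.mem_pResidual_of_coprime ?_, rfl⟩
  rwa [Subgroup.orderOf_mk]

/-- A finite group is generated by `O^p` and a Sylow `p`-subgroup, inside an ambient group. -/
theorem le_pResidual_sup {p : ℕ} [Fact p.Prime] {A B : Subgroup G} [Finite A]
    (hB : ∃ R : Sylow p A, (R : Subgroup A) = B.subgroupOf A) :
    A ≤ (pResidual p A).map A.subtype ⊔ B := by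
  obtain ⟨R, hR⟩ := hB
  have h := Cfsg.Agent.Transfer.Residual.pResidual_sup_sylow R
  intro a ha
  have h1 : (⟨a, ha⟩ : A) ∈ pResidual p A ⊔ (R : Subgroup A) := by rw [h]; trivial
  have h2 : a ∈ (pResidual p A ⊔ (R : Subgroup A)).map A.subtype := ⟨_, h1, rfl⟩
  rw [Subgroup.map_sup] at h2
  have h3 : (R : Subgroup A).map A.subtype ≤ B := by
    rintro _ ⟨x, hx, rfl⟩
    rw [SetLike.mem_coe, hR] at hx
    exact hx
  exact sup_le_sup_left h3 _ h2

end grp

variable {Ω : Type*} [Group Ω] {S T : Subgroup Ω}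

/-- `Aut_E(Q)` is contained in the group generated by `O^p(Aut_E(Q))` and `Aut_T(Q)` for `Q` fully automized. -/
theorem autGroup_le_sup {p : ℕ} [Fact p.Prime] [Finite T] {E : FusionSystem T} {Q : Subgroup Ω}
    (hQ : E.IsFullyAutomized p Q) :
    E.autGroup Q ≤ (pResidual p (E.autGroup Q)).map (E.autGroup Q).subtype ⊔ autInducedBy T Q := by
  have : Finite Q := H802.finite_of_le hQ.1
  exact le_pResidual_sup hQ.2

/-- A subsystem has smaller automorphism groups. -/
theorem autGroup_mono_of_sub {E : FusionSystem T} {F : FusionSystem S} (h : E.IsSubsystemOf F)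
    (Q : Subgroup Ω) : E.autGroup Q ≤ F.autGroup Q :=
  Subgroup.closure_mono fun _ hα => h Q hα

/-- **Comparison**: a saturated subsystem `E` of `F` over `T` is contained in every system over `T` whose
automorphism groups contain the groups `O^p(Aut_F(P))`. -/
theorem hom_subset_of_pResidual_le {p : ℕ} [Fact p.Prime] [Finite T] (hT : IsPGroup p T)
    {F : FusionSystem S} {E : FusionSystem T} (hE : E.IsSaturated p) (hEF : E.IsSubsystemOf F)
    (E' : FusionSystem T)
    (h' : ∀ P : Subgroup Ω, P ≤ T →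
      (pResidual p (F.autGroup P)).map (F.autGroup P).subtype ≤ E'.autGroup P) (P : Subgroup Ω) :
    E.Hom P ⊆ E'.Hom P := by
  refine H802.le_of_autGroup_le hT hE E' (fun Q hQ _ => ?_) P
  have hQa := H802.isFullyAutomized_of_isFullyNormalized hT hE hQ
  refine (autGroup_le_sup hQa).trans (sup_le ?_ ?_)
  · exact (pResidual_map_mono p (autGroup_mono_of_sub hEF Q)).trans (h' Q hQ.1)
  · exact H802.autInducedBy_le_autGroup E' hQ.1

/-- **Uniqueness** of the saturated subsystem of `p`-power index over `T`. -/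
theorem hom_eq_of_pPowerIndex {p : ℕ} [Fact p.Prime] [Finite T] (hT : IsPGroup p T)
    {F : FusionSystem S} {E E' : FusionSystem T} (hE : E.IsSaturated p) (hE' : E'.IsSaturated p)
    (hEF : E.HasPPowerIndexIn F p) (hEF' : E'.HasPPowerIndexIn F p) (P : Subgroup Ω) :
    E.Hom P = E'.Hom P :=
  Set.Subset.antisymm (hom_subset_of_pResidual_le hT hE hEF.1 E' hEF'.2.2 P)
    (hom_subset_of_pResidual_le hT hE' hEF'.1 E hEF.2.2 P)

/-! ### The group case -/

section group

variable {G : Type*} [Group G] [Finite G]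

/-- An automorphism of `P` of order prime to `p` induced by `N ≤ G` is induced by an element of `N ∩ O^p(G)`. -/
theorem exists_pResidual_of_coprime (p : ℕ) [Fact p.Prime] {P : Subgroup G} {α : MulAut P}
    {g : G} (hα : ∀ x : P, ((α x : P) : G) = g * (x : G) * g⁻¹) (ho : Nat.Coprime (orderOf α) p) :
    ∃ g' ∈ pResidual p G, ∀ x : P, ((α x : P) : G) = g' * (x : G) * g'⁻¹ := by
  obtain ⟨k, hk⟩ := Cfsg.Agent.Transfer.Residual.exists_pow_prime_pow_coprime p g
  have hpow : ∀ (n : ℕ) (x : P), (((α ^ n) x : P) : G) = g ^ n * (x : G) * (g ^ n)⁻¹ := by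
    intro n
    induction n with
    | zero => intro x; simp
    | succ n ih =>
      intro x
      rw [pow_succ, MulAut.mul_apply, ih, hα, pow_succ]
      group
  -- `α` is a power of `α ^ p ^ k`
  have hcop : Nat.Coprime (orderOf α) (p ^ k) := ho.pow_right k
  obtain ⟨m, hm⟩ := exists_pow_eq_self_of_coprime hcop.symm
  refine ⟨(g ^ p ^ k) ^ m, Subgroup.pow_mem _
    (Cfsg.Agent.Transfer.Residual.mem_pResidual_of_coprime hk) m, fun x => ?_⟩
  rw [← pow_mul]
  have := hpow (p ^ k * m) x
  rw [pow_mul, hm] at this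
  exact this

/-- `O^p(Aut_G(P))` is induced by `O^p(G)`. -/
theorem pResidual_autInducedBy_le (p : ℕ) [Fact p.Prime] (N : Subgroup G) (P : Subgroup G) :
    (pResidual p (autInducedBy N P)).map (autInducedBy N P).subtype ≤
      autInducedBy (pResidual p G) P := by
  rw [Cfsg.Agent.Transfer.Residual.pResidual_def, MonoidHom.map_closure, Subgroup.closure_le]
  rintro _ ⟨α, hα, rfl⟩
  obtain ⟨g, -, hg⟩ := (H802.mem_autInducedBy_iff _ _ _).1 α.2
  have ho : Nat.Coprime (orderOf (α : MulAut P)) p := by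
    rw [Subgroup.orderOf_coe]; exact hα
  obtain ⟨g', hg', h⟩ := exists_pResidual_of_coprime p hg ho
  exact (H802.mem_autInducedBy_iff _ _ _).2 ⟨g', hg', h⟩

/-- The fusion system of `O^p(G)` on `S ∩ O^p(G)` has `p`-power index in that of `G`, in case `S ∩ O^p(G)` is
the hyperfocal subgroup. -/
theorem fs_pResidual (p : ℕ) [Fact p.Prime] (S : Sylow p G) {T : Subgroup G}
    (hT : T = (S : Subgroup G) ⊓ pResidual p G)
    (hyp : (groupFusionSystem (S : Subgroup G)).hyperfocalSubgroup p ≤ T) :
    (fusionSystemOfSubgroup (pResidual p G) T (hT ▸ inf_le_right)).IsSaturated p ∧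
    (fusionSystemOfSubgroup (pResidual p G) T (hT ▸ inf_le_right)).HasPPowerIndexIn
      (groupFusionSystem (S : Subgroup G)) p := by
  have hTR : T ≤ pResidual p G := hT ▸ inf_le_right
  have hTS : T ≤ (S : Subgroup G) := hT ▸ inf_le_left
  have hn : (pResidual p G).Normal := Cfsg.Agent.Transfer.Residual.pResidual_normal p
  have hsyl : H802.SylIn p T (pResidual p G) := by
    rw [hT]
    exact (H802.sylIn_top_of_sylow S).inf_normal le_top (fun k _ m hm => hn.conj_mem m hm k)
  refine ⟨H802.fs_isSaturated hsyl, fun P φ => ?_, hyp, fun P hP => ?_⟩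
  · rintro ⟨hPT, hφ, g, -, hg⟩
    exact ⟨hPT.trans hTS, fun x => hTS (hφ x), g, hg⟩
  · rw [H802.fs_autGroup hTR hP, H802.groupFusionSystem_eq, H802.fs_autGroup le_top (hP.trans hTS)]
    exact pResidual_autInducedBy_le p ⊤ P

/-- A saturated subsystem of `p`-power index over `S ∩ O^p(G)` is the fusion system of `O^p(G)`. -/
theorem hom_eq_fs_pResidual (p : ℕ) [Fact p.Prime] (S : Sylow p G) {T : Subgroup G}
    (hT : T = (S : Subgroup G) ⊓ pResidual p G) {E : FusionSystem T} (hE : E.IsSaturated p)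
    (hEF : E.HasPPowerIndexIn (groupFusionSystem (S : Subgroup G)) p) :
    ∃ h : (S : Subgroup G) ⊓ pResidual p G ≤ pResidual p G, ∀ P : Subgroup G,
      E.Hom P = (fusionSystemOfSubgroup (pResidual p G) ((S : Subgroup G) ⊓ pResidual p G) h).Hom P := by
  refine ⟨inf_le_right, fun P => ?_⟩
  obtain ⟨h1, h2⟩ := fs_pResidual p S hT hEF.2.1
  subst hT
  exact hom_eq_of_pPowerIndex (S.isPGroup'.to_le inf_le_left) hE h1 hEF h2 P

end group

end Cfsg.Agent.H755
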