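import Cfsg.Agent.H802.FusSub
import Cfsg.Agent.H755.PIndex
import Cfsg.Agent.H759.FusLift
set_option linter.all false

/-!
# Normal subsystems centralize commuting strongly closed subgroups (helper755)

* `strong_inv`: strong invariance of an invariant subsystem;
* `goodSys`: the maps of `E` that extend to `P U` in `F` by the identity on `U`;
* `hom_subset_goodSys` (Theorem A): `E` normal in `F` over `T`, `U` strongly closed in `F`, `[T, U] = 1` and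
  `T ∩ U ≤ Z(E)` imply that every map of `E` extends to a map of `F` that is the identity on `U`.
-/

set_option autoImplicit false

namespace Cfsg.Agent.H755

open Cfsg Cfsg.FusionSystem
open Cfsg.Agent.H759 (StronglyClosed.apply_mem StronglyClosed.mem_of_apply_mem
  StronglyClosed.exists_preimage)

variable {Ω : Type*} [Group Ω] {S T : Subgroup Ω}

/-! ### Strong invariance -/

/-- **Strong invariance**: `ψ φ ψ⁻¹` is a map of `E` for `φ` a map of `E` and `ψ` a map of `F` defined on a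
subgroup of `T` containing the source and the image of `φ`. -/
theorem strong_inv {E : FusionSystem T} {F : FusionSystem S} (hE : E.IsInvariantIn F)
    {P Q : Subgroup Ω} {φ : P →* Ω} (hφ : φ ∈ E.Hom P) (hPQ : P ≤ Q) (hφQ : ∀ x, φ x ∈ Q)
    (hQT : Q ≤ T) {ψ : Q →* Ω} (hψ : ψ ∈ F.Hom Q) {P' : Subgroup Ω} {χ : P' →* Ω}
    (hP' : ∀ y : P', ∃ x : P, ψ ⟨x, hPQ x.2⟩ = y ∧ χ y = ψ ⟨φ x, hφQ x⟩) : χ ∈ E.Hom P' := by
  obtain ⟨hEF, hTc, hinv, hfr⟩ := hE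
  obtain ⟨α, hα, ψ₀, hψ₀, hψe⟩ := hfr Q hQT ψ hψ
  have hψ₀T : ∀ y : Q, ψ₀ y ∈ T := (E.le_of_mem hψ₀).2
  have hPT : P ≤ T := hPQ.trans hQT
  -- the inverse of `ψ₀` on the image of `P`
  have hρ : ψ₀.comp (Subgroup.inclusion hPQ) ∈ E.Hom P := H802.restrict_mem hψ₀ hPQ
  set ρ := ψ₀.comp (Subgroup.inclusion hPQ) with hρd
  obtain ⟨ι, hι, hιr, hι1, hι2⟩ := H802.exists_inv hρ rfl
  have hιP : ∀ y, ι y ∈ P := fun y => hιr.le ⟨y, rfl⟩
  obtain ⟨χ₁, hχ₁, hχ₁e⟩ := H802.exists_comp hι hφ hιP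
  have hχ₁Q : ∀ y, χ₁ y ∈ Q := fun y => by rw [hχ₁e]; exact hφQ _
  obtain ⟨χ₂, hχ₂, hχ₂e⟩ := H802.exists_comp hχ₁ hψ₀ hχ₁Q
  have hρT : ρ.range ≤ T := H802.range_le_of_mem hρ
  obtain ⟨χ₃, hχ₃, hχ₃e⟩ := hinv ρ.range hρT χ₂ hχ₂ α hα
  have hχ₂v : ∀ x : P, χ₂ ⟨ρ x, ⟨x, rfl⟩⟩ = ψ₀ ⟨φ x, hφQ x⟩ := by
    intro x
    rw [hχ₂e]
    congr 1
    apply Subtype.ext
    show χ₁ ⟨ρ x, ⟨x, rfl⟩⟩ = φ x
    rw [hχ₁e]
    congr 1
    exact Subtype.ext (hι1 x ⟨x, rfl⟩)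
  have hle : P' ≤ (ρ.range.subgroupOf T).map (T.subtype.comp α.toMonoidHom) := by
    intro y hy
    obtain ⟨x, hx, -⟩ := hP' ⟨y, hy⟩
    refine ⟨⟨ρ x, hρT ⟨x, rfl⟩⟩, ⟨x, rfl⟩, ?_⟩
    have h1 := hψe ⟨x, hPQ x.2⟩ (hψ₀T _)
    have h2 : (y : Ω) = ψ ⟨x, hPQ x.2⟩ := hx.symm
    rw [h2, h1]
    rfl
  refine H802.mem_of_agree hχ₃ hle (fun y hy => ?_)
  obtain ⟨x, hx, hχy⟩ := hP' ⟨y, hy⟩
  have h0 : ((α ⟨ρ x, hρT ⟨x, rfl⟩⟩ : T) : Ω) = y := by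
    have h1 := hψe ⟨x, hPQ x.2⟩ (hψ₀T _)
    have h2 : (y : Ω) = ψ ⟨x, hPQ x.2⟩ := hx.symm
    rw [h2, h1]
    rfl
  have h3 := hχ₃e ⟨ρ x, ⟨x, rfl⟩⟩ ((E.le_of_mem hχ₂).2 _) (by rw [h0]; exact hle hy)
  have h4 : (⟨((α ⟨ρ x, hρT ⟨x, rfl⟩⟩ : T) : Ω), by rw [h0]; exact hle hy⟩ :
      ((ρ.range.subgroupOf T).map (T.subtype.comp α.toMonoidHom) : Subgroup Ω)) = ⟨y, hle hy⟩ :=
    Subtype.ext h0
  rw [h4] at h3
  rw [hχy, h3]
  rw [hψe ⟨φ x, hφQ x⟩ (hψ₀T _)]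
  congr 2
  exact Subtype.ext (hχ₂v x).symm

/-- Strong invariance for automorphism groups. -/
theorem strong_inv_aut {E : FusionSystem T} {F : FusionSystem S} (hE : E.IsInvariantIn F)
    {P P' : Subgroup Ω} (hPT : P ≤ T) (hP'T : P' ≤ T) {γ : MulAut P} (hγ : γ ∈ E.autGroup P)
    {ψ : P →* Ω} (hψ : ψ ∈ F.Hom P) {γ' : MulAut P'}
    (h : ∀ y : P', ∃ x : P, ψ x = y ∧ ((γ' y : P') : Ω) = ψ (γ x)) : γ' ∈ E.autGroup P' := by
  rw [H802.mem_autGroup_iff E hP'T]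
  rw [H802.mem_autGroup_iff E hPT] at hγ
  exact strong_inv hE hγ le_rfl (fun x => (γ x).2) hPT hψ (fun y => h y)

/-! ### Fully normalized subgroups of a subsystem over a strongly closed subgroup -/

/-- A subgroup of the strongly closed subgroup `T` fully normalized in `F` is fully normalized in each subsystem
over `T`. -/
theorem isFullyNormalized_sub {p : ℕ} [Fact p.Prime] [Finite S] (hS : IsPGroup p S)
    {F : FusionSystem S} (hF : F.IsSaturated p) {E : FusionSystem T} (hEF : E.IsSubsystemOf F)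
    (hT : F.StronglyClosed T) {Q : Subgroup Ω} (hQT : Q ≤ T) (hQ : F.IsFullyNormalized Q) :
    E.IsFullyNormalized Q := by
  refine ⟨hQT, fun R hR => ?_⟩
  obtain ⟨φ, hφ, hφr⟩ := H802.isConj_symm hR
  have hRT : R ≤ T := H802.hom_le hφ
  obtain ⟨β, hβ, ψ, hψ, he, hm⟩ := H802.exists_extension_normalizer hS hF (hEF R hφ) hφr hQ
  have hle : normalizerIn T R ≤ normalizerIn S R := inf_le_inf_right _ hT.1
  have : Finite (normalizerIn T Q) := H802.finite_of_le (inf_le_left.trans hT.1)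
  refine H802.card_le_of_maps (F.injective_of_mem hψ) hle (fun x hx => ⟨?_, ?_⟩)
  · exact StronglyClosed.apply_mem hT hψ (x := ⟨x, hle hx⟩) hx.1
  · exact (hm ⟨x, hle hx⟩).2

/-! ### The good maps -/

section good

variable {U : Subgroup Ω}

theorem mem_sup_of_comm {P U : Subgroup Ω} (hc : ∀ t ∈ P, ∀ u ∈ U, t * u = u * t) {y : Ω} :
    y ∈ P ⊔ U ↔ ∃ x ∈ P, ∃ u ∈ U, x * u = y := by
  refine H759.mem_sup_of_normalizes ?_
  rw [Subgroup.le_normalizer_iff]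
  intro a ha b hb
  rw [hc a ha b hb]
  simpa using hb

/-- The subsystem of `E` of the maps that extend to `P U` in `F` by the identity of `U`. -/
def goodSys (E : FusionSystem T) (F : FusionSystem S) (U : Subgroup Ω) (hTS : T ≤ S) (hUS : U ≤ S)
    (hc : ∀ t ∈ T, ∀ u ∈ U, t * u = u * t) : FusionSystem T where
  Hom P := {φ | φ ∈ E.Hom P ∧ ∃ ψ ∈ F.Hom (P ⊔ U),
    (∀ x : P, ψ ⟨x, Subgroup.mem_sup_left x.2⟩ = φ x) ∧
    ∀ (u : Ω) (hu : u ∈ U), ψ ⟨u, Subgroup.mem_sup_right hu⟩ = u}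
  le_of_mem h := E.le_of_mem h.1
  injective_of_mem h := E.injective_of_mem h.1
  conj_mem := by
    intro P g hP hg
    refine ⟨E.conj_mem hP hg, _, F.conj_mem (sup_le (hP.trans hTS) hUS) (hTS hg),
      fun x => rfl, fun u hu => ?_⟩
    show g * u * g⁻¹ = u
    rw [hc g hg u hu, mul_inv_cancel_right]
  comp_mem := by
    rintro P Q φ ψ ⟨hφ, φ', hφ', h1, h2⟩ ⟨hψ, ψ', hψ', h3, h4⟩ h
    have hm : ∀ y : (P ⊔ U : Subgroup Ω), φ' y ∈ Q ⊔ U := by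
      apply H759.hom_sup_mem
      · intro x hx hx'
        have := h1 ⟨x, hx⟩
        rw [this]
        exact Subgroup.mem_sup_left (h ⟨x, hx⟩)
      · intro u hu hu'
        rw [h2 u hu]
        exact Subgroup.mem_sup_right hu
    refine ⟨E.comp_mem hφ hψ h, _, F.comp_mem hφ' hψ' hm, fun x => ?_, fun u hu => ?_⟩
    · show ψ' ⟨φ' ⟨x, _⟩, _⟩ = ψ ⟨φ x, h x⟩
      rw [← h3]
      congr 1
      exact Subtype.ext (h1 x)
    · show ψ' ⟨φ' ⟨u, _⟩, _⟩ = u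
      have h5 : (⟨φ' ⟨u, Subgroup.mem_sup_right hu⟩, hm ⟨u, Subgroup.mem_sup_right hu⟩⟩ :
          (Q ⊔ U : Subgroup Ω)) = ⟨u, Subgroup.mem_sup_right hu⟩ := Subtype.ext (h2 u hu)
      rw [h5, h4 u hu]
  inv_mem := by
    rintro P φ ⟨hφ, φ', hφ', h1, h2⟩
    obtain ⟨ι, hι, hιe⟩ := E.inv_mem hφ
    have hle : φ.range ⊔ U ≤ φ'.range := by
      refine sup_le ?_ ?_
      · rintro _ ⟨x, rfl⟩
        exact ⟨_, h1 x⟩
      · intro u hu
        exact ⟨_, h2 u hu⟩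
    obtain ⟨κ, hκ, hκe⟩ := H759.exists_inv F hφ' hle
    refine ⟨ι, ⟨hι, κ, hκ, ?_, fun u hu => ?_⟩, hιe⟩
    · rintro ⟨_, x, rfl⟩
      have h3 : φ' ⟨x, Subgroup.mem_sup_left x.2⟩ ∈ φ.range ⊔ U := by
        rw [h1 x]; exact Subgroup.mem_sup_left ⟨x, rfl⟩
      have h4 := hκe ⟨x, Subgroup.mem_sup_left x.2⟩ h3
      have h5 : (⟨φ' ⟨x, Subgroup.mem_sup_left x.2⟩, h3⟩ : (φ.range ⊔ U : Subgroup Ω)) =
          ⟨φ x, Subgroup.mem_sup_left ⟨x, rfl⟩⟩ := Subtype.ext (h1 x)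
      rw [h5] at h4
      rw [h4, hιe]
    · have h3 : φ' ⟨u, Subgroup.mem_sup_right hu⟩ ∈ φ.range ⊔ U := by
        rw [h2 u hu]; exact Subgroup.mem_sup_right hu
      have h4 := hκe ⟨u, Subgroup.mem_sup_right hu⟩ h3
      have h5 : (⟨φ' ⟨u, Subgroup.mem_sup_right hu⟩, h3⟩ : (φ.range ⊔ U : Subgroup Ω)) =
          ⟨u, Subgroup.mem_sup_right hu⟩ := Subtype.ext (h2 u hu)
      rw [h5] at h4
      exact h4

variable {E : FusionSystem T} {F : FusionSystem S}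

theorem goodSys_le {hTS : T ≤ S} {hUS : U ≤ S} {hc : ∀ t ∈ T, ∀ u ∈ U, t * u = u * t} :
    goodSys E F U hTS hUS hc ≤ E := fun _ _ h => h.1

/-- Transport of good automorphisms along a map of `F` defined on `Q U`. -/
theorem good_transport [Finite S] (hE : E.IsInvariantIn F) (hU : F.StronglyClosed U)
    {hTS : T ≤ S} {hUS : U ≤ S} {hc : ∀ t ∈ T, ∀ u ∈ U, t * u = u * t}
    {Q Q' : Subgroup Ω} (hQ : Q ≤ T) (hQ' : Q' ≤ T) {σ : (Q ⊔ U : Subgroup Ω) →* Ω}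
    (hσ : σ ∈ F.Hom (Q ⊔ U)) {γ : MulAut Q} (hγ : γ ∈ (goodSys E F U hTS hUS hc).autGroup Q)
    {γ' : MulAut Q'} (h : ∀ y : Q', ∃ x : Q, σ ⟨x, Subgroup.mem_sup_left x.2⟩ = y ∧
      ((γ' y : Q') : Ω) = σ ⟨(γ x : Q), Subgroup.mem_sup_left (γ x).2⟩) :
    γ' ∈ (goodSys E F U hTS hUS hc).autGroup Q' := by
  rw [H802.mem_autGroup_iff _ hQ] at hγ
  rw [H802.mem_autGroup_iff _ hQ']
  obtain ⟨hγE, g, hg, hg1, hg2⟩ := hγ
  refine ⟨?_, ?_⟩
  · exact strong_inv hE hγE le_rfl (fun x => (γ x).2) hQ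
      (H802.restrict_mem hσ (le_sup_left : Q ≤ Q ⊔ U)) (fun y => h y)
  · -- `σ g σ⁻¹`
    have hle : Q' ⊔ U ≤ σ.range := by
      refine sup_le ?_ ?_
      · intro y hy
        obtain ⟨x, hx, -⟩ := h ⟨y, hy⟩
        exact ⟨_, hx⟩
      · intro u hu
        obtain ⟨x, hx, he⟩ := StronglyClosed.exists_preimage hU hσ le_sup_right hu
        exact ⟨_, he⟩
    obtain ⟨τ, hτ, hτe⟩ := H759.exists_inv F hσ hle
    have hτm : ∀ y : (Q' ⊔ U : Subgroup Ω), τ y ∈ Q ⊔ U := by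
      apply H759.hom_sup_mem
      · intro y hy hy'
        obtain ⟨x, hx, -⟩ := h ⟨y, hy⟩
        have h3 : σ ⟨x, Subgroup.mem_sup_left x.2⟩ ∈ Q' ⊔ U := by
          rw [hx]; exact hy'
        have h4 := hτe ⟨x, Subgroup.mem_sup_left x.2⟩ h3
        have h5 : (⟨σ ⟨x, Subgroup.mem_sup_left x.2⟩, h3⟩ : (Q' ⊔ U : Subgroup Ω)) = ⟨y, hy'⟩ :=
          Subtype.ext hx
        rw [h5] at h4
        rw [h4]
        exact Subgroup.mem_sup_left x.2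
      · intro u hu hu'
        exact Subgroup.mem_sup_right (StronglyClosed.apply_mem hU hτ (x := ⟨u, hu'⟩) hu)
    obtain ⟨a, ha, hae⟩ := H802.exists_comp hτ hg hτm
    have ham : ∀ y : (Q' ⊔ U : Subgroup Ω), g ⟨τ y, hτm y⟩ ∈ Q ⊔ U := by
      intro y
      refine H759.hom_sup_mem (φ := g) (R := Q ⊔ U) ?_ ?_ _
      · intro x hx hx'
        have := hg1 ⟨x, hx⟩
        rw [this]
        exact Subgroup.mem_sup_left (γ ⟨x, hx⟩).2
      · intro u hu hu'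
        rw [hg2 u hu]
        exact Subgroup.mem_sup_right hu
    have ham' : ∀ y : (Q' ⊔ U : Subgroup Ω), a y ∈ Q ⊔ U := fun y => by rw [hae]; exact ham y
    obtain ⟨b, hb, hbe⟩ := H802.exists_comp ha hσ ham'
    refine ⟨b, hb, fun y => ?_, fun u hu => ?_⟩
    · obtain ⟨x, hx, hxe⟩ := h y
      have h3 : σ ⟨x, Subgroup.mem_sup_left x.2⟩ ∈ Q' ⊔ U := by
        rw [hx]; exact Subgroup.mem_sup_left y.2
      have h4 := hτe ⟨x, Subgroup.mem_sup_left x.2⟩ h3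
      have h5 : (⟨σ ⟨x, Subgroup.mem_sup_left x.2⟩, h3⟩ : (Q' ⊔ U : Subgroup Ω)) =
          ⟨y, Subgroup.mem_sup_left y.2⟩ := Subtype.ext hx
      rw [h5] at h4
      have h6 : a ⟨y, Subgroup.mem_sup_left y.2⟩ = (γ x : Q) := by
        rw [hae]
        have h7 : (⟨τ ⟨y, Subgroup.mem_sup_left y.2⟩, hτm _⟩ : (Q ⊔ U : Subgroup Ω)) =
            ⟨x, Subgroup.mem_sup_left x.2⟩ := Subtype.ext h4
        rw [h7]
        exact hg1 x
      rw [hbe]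
      refine Eq.trans ?_ hxe.symm
      congr 1
      exact Subtype.ext h6
    · rw [hbe]
      have h6 : a ⟨u, Subgroup.mem_sup_right hu⟩ = τ ⟨u, Subgroup.mem_sup_right hu⟩ := by
        rw [hae]
        exact hg2 _ (StronglyClosed.apply_mem hU hτ (x := ⟨u, Subgroup.mem_sup_right hu⟩) hu)
      -- `u = σ w`, `τ u = w`
      obtain ⟨w, hw, he⟩ := StronglyClosed.exists_preimage hU hσ le_sup_right hu
      have h3 : σ ⟨w, (le_sup_right : U ≤ Q ⊔ U) hw⟩ ∈ Q' ⊔ U := by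
        rw [he]; exact Subgroup.mem_sup_right hu
      have h4 := hτe ⟨w, (le_sup_right : U ≤ Q ⊔ U) hw⟩ h3
      have h5 : (⟨σ ⟨w, (le_sup_right : U ≤ Q ⊔ U) hw⟩, h3⟩ : (Q' ⊔ U : Subgroup Ω)) =
          ⟨u, Subgroup.mem_sup_right hu⟩ := Subtype.ext he
      rw [h5] at h4
      rw [h4] at h6
      refine Eq.trans ?_ he
      congr 1
      exact Subtype.ext h6

end good

end Cfsg.Agent.H755
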