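import Cfsg.Prelude.Def_FusionSystem
import Cfsg.Agent.H802.FusSat
import Cfsg.Agent.H759.FusBasic
set_option linter.all false

/-!
# Full automization through larger subgroups (helper755)

* `isFullyAutomized_of_conj`: `M` is fully automized as soon as every `p`-subgroup of `Aut_F(M)` is conjugate
  in `Aut_F(M)` into `Aut_S(M)`;
* `exists_fullyAutomized_image`: if `M` is fully automized, `Q ≤ M` and every element of `Aut_F(Q)` is the
  restriction of an element of `Aut_F(M)`, then for some `α ∈ Aut_F(M)` the image `α(Q)` is fully automized.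
-/

set_option autoImplicit false

namespace Cfsg.Agent.H755

open Cfsg Cfsg.FusionSystem

variable {Ω : Type*} [Group Ω] {S : Subgroup Ω}

/-- A finite group version: if `f : X → Y` is onto, `R` is Sylow in `X` and `C` is a `p`-subgroup of `Y` containing
`f(R)` then `C` is Sylow in `Y`. -/
theorem exists_sylow_eq_of_map_le {X Y : Type*} [Group X] [Group Y] [Finite X] {p : ℕ} [Fact p.Prime]
    {f : X →* Y} (hf : Function.Surjective f) (R : Sylow p X) (C : Subgroup Y) (hC : IsPGroup p C)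
    (hle : (R : Subgroup X).map f ≤ C) : ∃ R' : Sylow p Y, (R' : Subgroup Y) = C := by
  have h1 : ((R.mapSurjective hf : Sylow p Y) : Subgroup Y) = (R : Subgroup X).map f := rfl
  refine ⟨R.mapSurjective hf, ?_⟩
  have h2 := (R.mapSurjective hf).is_maximal' hC (by rw [h1]; exact hle)
  rw [← h2]

theorem isPGroup_autS {p : ℕ} (hS : IsPGroup p S) (F : FusionSystem S) (P : Subgroup Ω) :
    IsPGroup p ((autInducedBy S P).subgroupOf (F.autGroup P)) :=
  (H802.isPGroup_autInducedBy hS P).comap_of_injective _ (Subgroup.subtype_injective _)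

theorem isFullyAutomized_of_conj {p : ℕ} [Fact p.Prime] [Finite S] (hS : IsPGroup p S)
    (F : FusionSystem S) {M : Subgroup Ω} (hM : M ≤ S)
    (h : ∀ R : Subgroup (MulAut M), R ≤ F.autGroup M → IsPGroup p R →
      ∃ β ∈ F.autGroup M, ∀ γ ∈ R, β * γ * β⁻¹ ∈ autInducedBy S M) : F.IsFullyAutomized p M := by
  have : Finite M := H802.finite_of_le hM
  refine ⟨hM, ?_⟩
  obtain ⟨R⟩ : Nonempty (Sylow p (F.autGroup M)) := inferInstance
  obtain ⟨β, hβ, hc⟩ := h ((R : Subgroup (F.autGroup M)).map (F.autGroup M).subtype)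
    (by rintro _ ⟨x, -, rfl⟩; exact x.2) (R.isPGroup'.map _)
  have hle : (((⟨β, hβ⟩ : F.autGroup M) • R : Sylow p (F.autGroup M)) : Subgroup (F.autGroup M)) ≤
      (autInducedBy S M).subgroupOf (F.autGroup M) := by
    intro x hx
    rw [Sylow.coe_subgroup_smul] at hx
    obtain ⟨γ, hγ, rfl⟩ := hx
    exact hc γ ⟨γ, hγ, rfl⟩
  refine ⟨(⟨β, hβ⟩ : F.autGroup M) • R, ?_⟩
  exact (((⟨β, hβ⟩ : F.autGroup M) • R).is_maximal' (isPGroup_autS hS F M) hle).symm

/-- The subgroup of the `α ∈ A` leaving `Q` invariant. -/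
def autStab {M : Subgroup Ω} (A : Subgroup (MulAut M)) (Q : Subgroup Ω) : Subgroup (MulAut M) where
  carrier := {α | α ∈ A ∧ ∀ x : M, ((α x : M) : Ω) ∈ Q ↔ (x : Ω) ∈ Q}
  one_mem' := ⟨A.one_mem, fun _ => Iff.rfl⟩
  mul_mem' := by
    rintro α β ⟨hα, h⟩ ⟨hβ, h'⟩
    exact ⟨A.mul_mem hα hβ, fun x => (h (β x)).trans (h' x)⟩
  inv_mem' := by
    rintro α ⟨hα, h⟩
    refine ⟨A.inv_mem hα, fun x => ?_⟩
    rw [← h (α⁻¹ x), MulAut.apply_inv_self]

theorem autStab_le {M : Subgroup Ω} (A : Subgroup (MulAut M)) (Q : Subgroup Ω) :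
    autStab A Q ≤ A := fun _ h => h.1

/-- Restriction of automorphisms of `M` leaving `Q ≤ M` invariant. -/
def resAut {M Q : Subgroup Ω} (A : Subgroup (MulAut M)) (hQ : Q ≤ M) : autStab A Q →* MulAut Q where
  toFun α :=
    { toFun := fun x => ⟨((α : MulAut M) ⟨x, hQ x.2⟩ : M), (α.2.2 _).2 x.2⟩
      invFun := fun x => ⟨((α⁻¹ : autStab A Q) : MulAut M) ⟨x, hQ x.2⟩, ((α⁻¹).2.2 _).2 x.2⟩
      left_inv := fun x => by
        apply Subtype.ext
        show ((((α : MulAut M)⁻¹) ((α : MulAut M) ⟨x, hQ x.2⟩) : M) : Ω) = x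
        rw [MulAut.inv_apply_self]
      right_inv := fun x => by
        apply Subtype.ext
        show (((α : MulAut M) (((α : MulAut M)⁻¹) ⟨x, hQ x.2⟩) : M) : Ω) = x
        rw [MulAut.apply_inv_self]
      map_mul' := fun x y => by
        apply Subtype.ext
        show (((α : MulAut M) (⟨x, hQ x.2⟩ * ⟨y, hQ y.2⟩) : M) : Ω) = _
        rw [map_mul]
        rfl }
  map_one' := by
    apply MulEquiv.ext
    intro x
    rfl
  map_mul' α β := by
    apply MulEquiv.ext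
    intro x
    rfl

theorem coe_resAut {M Q : Subgroup Ω} (A : Subgroup (MulAut M)) (hQ : Q ≤ M) (α : autStab A Q) (x : Q) :
    ((resAut A hQ α x : Q) : Ω) = ((α : MulAut M) ⟨x, hQ x.2⟩ : M) := rfl

/-- If `M` is fully automized, `Q ≤ M` and every element of `Aut_F(Q)` is the restriction of an element of
`Aut_F(M)`, then some image of `Q` under `Aut_F(M)` is fully automized. -/
theorem exists_fullyAutomized_image {p : ℕ} [Fact p.Prime] [Finite S] (hS : IsPGroup p S)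
    (F : FusionSystem S) {M Q : Subgroup Ω} (hM : F.IsFullyAutomized p M) (hQ : Q ≤ M)
    (hext : ∀ β ∈ F.autGroup Q, ∃ α ∈ F.autGroup M, ∀ x : Q,
      ((α ⟨x, hQ x.2⟩ : M) : Ω) = ((β x : Q) : Ω)) :
    ∃ α ∈ F.autGroup M,
      F.IsFullyAutomized p ((Q.subgroupOf M).map (M.subtype.comp α.toMonoidHom)) := by
  have hMS : M ≤ S := hM.1
  have : Finite M := H802.finite_of_le hMS
  have : Finite Q := H802.finite_of_le (hQ.trans hMS)
  obtain ⟨-, B, hB⟩ := hM
  -- a Sylow subgroup of the stabilizer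
  obtain ⟨R⟩ : Nonempty (Sylow p (autStab (F.autGroup M) Q)) := inferInstance
  -- conjugate it into `Aut_S(M)`
  let R₁ : Subgroup (F.autGroup M) :=
    ((R : Subgroup (autStab (F.autGroup M) Q)).map (autStab (F.autGroup M) Q).subtype).subgroupOf
      (F.autGroup M)
  have hR₁ : IsPGroup p R₁ :=
    (R.isPGroup'.map _).comap_of_injective _ (Subgroup.subtype_injective _)
  obtain ⟨R₂, hR₂⟩ := hR₁.exists_le_sylow
  obtain ⟨⟨α, hα⟩, hαB⟩ := MulAction.exists_smul_eq (F.autGroup M) R₂ B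
  have hconj : ∀ γ : autStab (F.autGroup M) Q, γ ∈ (R : Subgroup _) →
      α * (γ : MulAut M) * α⁻¹ ∈ autInducedBy S M := by
    intro γ hγ
    have h1 : (⟨γ, γ.2.1⟩ : F.autGroup M) ∈ R₁ := by
      show _ ∈ (R : Subgroup (autStab (F.autGroup M) Q)).map (autStab (F.autGroup M) Q).subtype
      exact ⟨γ, hγ, rfl⟩
    have h2 : (⟨α, hα⟩ : F.autGroup M) * ⟨γ, γ.2.1⟩ * ⟨α, hα⟩⁻¹ ∈ (B : Subgroup (F.autGroup M)) := by
      rw [← hαB, Sylow.coe_subgroup_smul]
      exact Subgroup.smul_mem_pointwise_smul (⟨γ, γ.2.1⟩ : F.autGroup M)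
        (MulAut.conj (⟨α, hα⟩ : F.autGroup M)) (R₂ : Subgroup (F.autGroup M)) (hR₂ h1)
    rw [hB, Subgroup.mem_subgroupOf] at h2
    exact h2
  refine ⟨α, hα, ?_⟩
  set Q' : Subgroup Ω := (Q.subgroupOf M).map (M.subtype.comp α.toMonoidHom) with hQ'
  have hmemQ' : ∀ x : M, ((α x : M) : Ω) ∈ Q' ↔ (x : Ω) ∈ Q := by
    intro x
    constructor
    · rintro ⟨y, hy, he⟩
      have : α y = α x := Subtype.ext he
      have h2 : y = x := α.injective this
      rw [← h2]; exact hy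
    · intro hx
      exact ⟨x, hx, rfl⟩
  have hQ'M : Q' ≤ M := by
    rintro _ ⟨y, hy, rfl⟩
    exact (α y).2
  have hQ'S : Q' ≤ S := hQ'M.trans hMS
  have : Finite Q' := H802.finite_of_le hQ'S
  -- conjugation `Stab Q → Stab Q'`
  have hst : ∀ γ : autStab (F.autGroup M) Q, α * (γ : MulAut M) * α⁻¹ ∈ autStab (F.autGroup M) Q' := by
    intro γ
    refine ⟨Subgroup.mul_mem _ (Subgroup.mul_mem _ hα γ.2.1) (Subgroup.inv_mem _ hα), fun x => ?_⟩
    rw [MulAut.mul_apply, MulAut.mul_apply, hmemQ', γ.2.2, ← hmemQ' (α⁻¹ x), MulAut.apply_inv_self]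
  have hst' : ∀ γ : autStab (F.autGroup M) Q', α⁻¹ * (γ : MulAut M) * α ∈ autStab (F.autGroup M) Q := by
    intro γ
    refine ⟨Subgroup.mul_mem _ (Subgroup.mul_mem _ (Subgroup.inv_mem _ hα) γ.2.1) hα, fun x => ?_⟩
    rw [MulAut.mul_apply, MulAut.mul_apply, ← hmemQ', MulAut.apply_inv_self, γ.2.2, hmemQ']
  -- the restriction map onto `Aut_F(Q')`
  let f : autStab (F.autGroup M) Q →* F.autGroup Q' :=
    { toFun := fun γ => ⟨resAut (F.autGroup M) hQ'M ⟨_, hst γ⟩, by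
        have h1 := (hst γ).1
        rw [H802.mem_autGroup_iff F hMS] at h1
        rw [H802.mem_autGroup_iff F hQ'S]
        exact H802.mem_of_agree h1 hQ'M (fun x hx => rfl)⟩
      map_one' := by
        apply Subtype.ext
        apply MulEquiv.ext
        intro x
        apply Subtype.ext
        show (((α * ((1 : autStab (F.autGroup M) Q) : MulAut M) * α⁻¹) ⟨x, hQ'M x.2⟩ : M) : Ω) = x
        simp
      map_mul' := fun γ δ => by
        apply Subtype.ext
        apply MulEquiv.ext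
        intro x
        apply Subtype.ext
        show (((α * ((γ * δ : autStab (F.autGroup M) Q) : MulAut M) * α⁻¹) ⟨x, hQ'M x.2⟩ : M) : Ω) =
          (((α * (γ : MulAut M) * α⁻¹) ((α * (δ : MulAut M) * α⁻¹) ⟨x, hQ'M x.2⟩) : M) : Ω)
        rw [← MulAut.mul_apply]
        congr 2
        simp [mul_assoc] }
  have hf : Function.Surjective f := by
    rintro ⟨β', hβ'⟩
    -- pull `β'` back to `Q`
    have hαm : M.subtype.comp α.toMonoidHom ∈ F.Hom M := (H802.mem_autGroup_iff F hMS α).1 hα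
    let κ : Q →* Ω := (M.subtype.comp α.toMonoidHom).comp (Subgroup.inclusion hQ)
    have hκ : κ ∈ F.Hom Q := H802.restrict_mem hαm hQ
    have hκr : κ.range = Q' := by
      ext z
      constructor
      · rintro ⟨x, rfl⟩
        exact ⟨⟨x, hQ x.2⟩, x.2, rfl⟩
      · rintro ⟨x, hx, rfl⟩
        exact ⟨⟨x, hx⟩, rfl⟩
    obtain ⟨β, hβ⟩ : ∃ β : MulAut Q, MulAut.congr (H802.isoOf κ (F.injective_of_mem hκ) hκr) β = β' :=
      (MulAut.congr (H802.isoOf κ (F.injective_of_mem hκ) hκr)).surjective β'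
    have hβm : β ∈ F.autGroup Q := by
      rw [← H802.congr_mem_autGroup_iff hκ hκr, hβ]
      exact hβ'
    obtain ⟨δ, hδ, hδe⟩ := hext β hβm
    have hδs : δ ∈ autStab (F.autGroup M) Q := by
      refine ⟨hδ, fun x => ⟨fun hx => ?_, fun hx => ?_⟩⟩
      · have h1 := hδe (β.symm ⟨_, hx⟩)
        rw [MulEquiv.apply_symm_apply] at h1
        have h2 : δ ⟨(β.symm ⟨_, hx⟩ : Q), hQ (β.symm ⟨_, hx⟩).2⟩ = δ x := Subtype.ext h1
        have h3 := δ.injective h2
        rw [← h3]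
        exact (β.symm ⟨_, hx⟩).2
      · have h1 := hδe ⟨x, hx⟩
        have h2 : (δ x : Ω) = ((β ⟨x, hx⟩ : Q) : Ω) := h1
        rw [h2]
        exact (β _).2
    refine ⟨⟨δ, hδs⟩, ?_⟩
    apply Subtype.ext
    show _ = β'
    rw [← hβ]
    apply MulEquiv.ext
    intro y
    apply Subtype.ext
    obtain ⟨x, hx⟩ := (H802.isoOf κ (F.injective_of_mem hκ) hκr).surjective y
    rw [← hx]
    show (((α * δ * α⁻¹) ⟨(α ⟨x, hQ x.2⟩ : M), _⟩ : M) : Ω) =
      κ (β ((H802.isoOf κ (F.injective_of_mem hκ) hκr).symm (H802.isoOf κ (F.injective_of_mem hκ) hκr x)))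
    rw [MulEquiv.symm_apply_apply, MulAut.mul_apply, MulAut.mul_apply]
    show ((α (δ (α⁻¹ (α ⟨x, hQ x.2⟩))) : M) : Ω) = ((α ⟨(β x : Q), hQ (β x).2⟩ : M) : Ω)
    rw [MulAut.inv_apply_self]
    congr 2
    exact Subtype.ext (hδe x)
  refine ⟨hQ'S, exists_sylow_eq_of_map_le hf R _ (isPGroup_autS hS F Q') ?_⟩
  rintro _ ⟨γ, hγ, rfl⟩
  rw [Subgroup.mem_subgroupOf, H802.mem_autInducedBy_iff]
  obtain ⟨g, hg, hge⟩ := (H802.mem_autInducedBy_iff S M _).1 (hconj γ hγ)
  exact ⟨g, hg, fun x => hge ⟨x, hQ'M x.2⟩⟩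

end Cfsg.Agent.H755
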